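import Mathlib

/-!
The neighbourhoods in the graph on one hundred points of the Higman-Sims group, as masks.
-/

set_option autoImplicit false
set_option maxRecDepth 100000

namespace CfsgLib.Spor.HSRankThree

/-- The neighbours of each point. -/
def masks : List ℕ := [
  0xa702020820d960214e0000000,
  0xa02dac40106100ac1880000,
  0x83288c0f980000400a0502800,
  0x230148448044208404ca90800,
  0x6008024007110542880a3280,
  0x9810416ca403aa8400800,
  0x1606c4880a0aa000304080a00,
  0xf008098a00080409854010910,
  0x2a0020408276280320608480,
  0x931281340844081070000450,
  0x20420008b040814a8808a4b00,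
  0x8802020049140304030094ec,
  0x124030862002083100d54810,
  0x200320800104e201d0680c014,
  0x5a985c0000180020268203400,
  0x5540552600818000c8082900,
  0x45224110900c3602a0001088,
  0x81000d500f086020007600410,
  0x229008c218acc018082081000,
  0xc00812010100062142054845a,
  0x8420010004f5008a55281004,
  0x404a0ab40808411480124108,
  0x34136080009009040500a1124,
  0x940080120cab0c0003000340a,
  0x76110002202082c1128120802,
  0x4440420d40420580270062800,
  0xb0120070b009020a01220c8,
  0x802202891a82410801100c038,
  0x2841460a000a22048ad00280,
  0x401e00200101c007894325,
  0x80001f20805210250c28b,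
  0x5801400006020080114258437,
  0x8000187180c0052c0c1003140,
  0xa1010042b4800800402114172,
  0x103009100a2001ce210282801,
  0x71442410a8000b40001024a2,
  0xc044449c0209000012832a1,
  0xc60104e700025200444001420,
  0x48c0040a740ac000d20400018,
  0x501e40445102800528140480,
  0x90231410a0022b00860240810,
  0x218086502618009100b4801,
  0x8452c0408e2c00441010414,
  0x800a948011181800c83001308,
  0xb0c8002000d101150e410402,
  0x900c80856d80012011092100,
  0xb33040032105040102a800a0,
  0x4a0008290240c0f9204c08000,
  0x308068088c80a5a2020108010,
  0x485800031000105801002316b,
  0x100cd00080000c06008172b03,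
  0x8128030400111804051252460,
  0x40115cc153008100000900911,
  0x211829000110007708a900140,
  0xd400052826100160000142328,
  0x212025800003c400096c0e1,
  0x44005388068688004404813,
  0x94e640980000020445840130,
  0x10bc258208000a00102100439,
  0x4048050401001240b0ce40a01,
  0x1aa4002aa08300880400b2020,
  0x20c8200680050e00ce8021040,
  0x23e12810004120d2c0820800,
  0x4801102060501001c48870144,
  0x14042130000126a524c040404,
  0x8e88509040414215009401,
  0xb20a00008801026c006209222,
  0x441003804338501131000040c,
  0x308001002439280290a290204,
  0x2520003502126201a48284,
  0x181610102288802b00200011e,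
  0x11105001241a0400a2014c7,
  0x6288428c10100010500938220,
  0x215a4200190c0802130200812,
  0x182aa00800110043b30068008,
  0x9400010a44100e20286420c2,
  0xa03d00190c68000420029082,
  0x1801ac328400804080e081101,
  0x2000020000e5049f01003c046,
  0x446020020031a005000642ae,
  0x2540210e0c0140d0114084020,
  0xc2001240326a1008000612a02,
  0x8020013220215249882404048,
  0x60d00340200043a8040a00074,
  0xcc03080809043a281402208,
  0x4080096644200490008512441,
  0xe001080415704140830209040,
  0x401007066e2e180000084084,
  0x8000802c84432400c0545c200,
  0x644040400548843040c001306,
  0x922198a002b02005002118400,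
  0x8503801103401045014044902,
  0x508010a000228708a0002920d,
  0x40211045000d0281104415d,
  0x8a818009004000a803e18051,
  0xa40003c409202f04080104a00,
  0x140024551445010481c040c0,
  0x824943142021000201442489,
  0x126a01088852806083084080,
  0x8d46000400480923088a0085]

end CfsgLib.Spor.HSRankThree
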