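import Cfsg.Agent.Lib.Spor.HSPerm.Data
import Cfsg.Agent.Lib.Spor.HSPerm.Cert
import Cfsg.Agent.Lib.Spor.HSRankThree.Data

/-!
The masks form a strongly regular graph invariant under the generators.
-/

set_option autoImplicit false
set_option maxRecDepth 100000

namespace CfsgLib.Spor.HSRankThree

open CfsgLib.Spor.HSPerm

/-- Adjacency as a bit. -/
def bit (x y : ℕ) : Bool := (masks.getD x 0).testBit y

theorem graph_check : ((List.range 100).all fun x => !bit x x &&
    Nat.beq ((List.range 100).countP (bit x)) 22 && (List.range 100).all fun y => (bit x y == bit y x) &&
      (decide (x = y) || Nat.beq ((List.range 100).countP fun z => bit x z && bit y z) (bif bit x y then 0 else 6))) =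
    true := by
  decide +kernel

theorem invariant_check : ((List.range 4).all fun k => (List.range 100).all fun x => (List.range 100).all fun y =>
    bit (look eltRows k x) (look eltRows k y) == bit x y) = true := by
  decide +kernel

end CfsgLib.Spor.HSRankThree
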