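import Cfsg.Agent.Lib.Spor.HSPerm.Group
import Cfsg.Agent.Lib.Spor.HSRankThree.GraphCheck
import Mathlib.Combinatorics.SimpleGraph.StronglyRegular

/-!
The Higman-Sims group preserves a strongly regular graph on its one hundred points.
-/

set_option autoImplicit false
set_option maxRecDepth 100000

namespace CfsgLib.Spor.HSRankThree

open CfsgLib.Spor.HSPerm

theorem graph_facts {x : ℕ} (hx : x < 100) : bit x x = false ∧ (List.range 100).countP (bit x) = 22 ∧
    ∀ y < 100, bit x y = bit y x ∧
      (x ≠ y → ((List.range 100).countP fun z => bit x z && bit y z) = bif bit x y then 0 else 6) := by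
  have h := List.all_eq_true.1 graph_check x (List.mem_range.2 hx)
  simp only [Bool.and_eq_true, Bool.not_eq_true', List.all_eq_true, List.mem_range, beq_iff_eq, Bool.or_eq_true,
    decide_eq_true_eq] at h
  exact ⟨h.1.1, Nat.eq_of_beq_eq_true h.1.2, fun y hy => ⟨(h.2 y hy).1, fun hne =>
    Nat.eq_of_beq_eq_true ((h.2 y hy).2.resolve_left hne)⟩⟩

/-- The graph. -/
def graph : SimpleGraph (Fin 100) where
  Adj x y := bit x.1 y.1 = true
  symm := ⟨fun x y h => ((graph_facts x.2).2.2 y.1 y.2).1 ▸ h⟩
  loopless := ⟨fun x h => by rw [(graph_facts x.2).1] at h; exact Bool.noConfusion h⟩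

instance : DecidableRel graph.Adj := fun x y => decEq (bit x.1 y.1) true

theorem card_filter_fin {n : ℕ} (f : ℕ → Bool) :
    (Finset.univ.filter fun z : Fin n => f z.1 = true).card = (List.range n).countP f := by
  induction n with
  | zero => rfl
  | succ n ih =>
    rw [List.range_succ, List.countP_append, List.countP_singleton, ← ih, Finset.card_filter, Finset.card_filter,
      Fin.sum_univ_castSucc]
    simp

theorem srg : graph.IsSRGWith 100 22 0 6 := by
  have hcn : ∀ x y : Fin 100, x ≠ y → Fintype.card (graph.commonNeighbors x y) = bif bit x.1 y.1 then 0 else 6 := by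
    intro x y hne
    rw [← ((graph_facts x.2).2.2 y.1 y.2).2 fun h => hne (Fin.ext h), ← card_filter_fin]
    rw [← Set.toFinset_card]
    refine congrArg Finset.card (Finset.ext fun z => ?_)
    simp only [Set.mem_toFinset, SimpleGraph.mem_commonNeighbors, Finset.mem_filter, Finset.mem_univ, true_and, Bool.and_eq_true]
    exact Iff.rfl
  refine ⟨by simp, fun x => ?_, fun x y h => ?_, fun x y hne h => ?_⟩
  · rw [← SimpleGraph.card_neighborFinset_eq_degree, ← (graph_facts x.2).2.1, ← card_filter_fin]
    refine congrArg Finset.card (Finset.ext fun z => ?_)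
    simp only [SimpleGraph.mem_neighborFinset, Finset.mem_filter, Finset.mem_univ, true_and]
    exact Iff.rfl
  · rw [hcn x y (SimpleGraph.Adj.ne h), show bit x.1 y.1 = true from h]; rfl
  · rw [hcn x y hne, Bool.eq_false_iff.2 h]; rfl

theorem preserves {g : Equiv.Perm (Fin 100)} (hg : g ∈ P) (x y : Fin 100) : graph.Adj (g x) (g y) ↔ graph.Adj x y := by
  rw [← closure_genSet] at hg
  induction hg using Subgroup.closure_induction generalizing x y with
  | mem g hg =>
    obtain ⟨-, k, hk, hm⟩ := hg
    show bit (g x).1 (g y).1 = true ↔ bit x.1 y.1 = true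
    rw [hm x, hm y]
    have h := invariant_check
    simp only [List.all_eq_true, List.mem_range, beq_iff_eq] at h
    rw [h k hk x.1 x.2 y.1 y.2]
  | one => rfl
  | mul a b _ _ ha hb => exact (ha (b x) (b y)).trans (hb x y)
  | inv a _ ha =>
    have := ha (a⁻¹ x) (a⁻¹ y)
    simp only [Equiv.Perm.coe_inv, Equiv.apply_symm_apply] at this ⊢
    exact this.symm

end CfsgLib.Spor.HSRankThree
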