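import Cfsg.Agent.Lib.Spor.PointSubgroups
import Cfsg.Agent.Lib.Spor.OuterAut
import Cfsg.Agent.Lib.Spor.IndexSubgroups

/-!
A subgroup of index 22 in the Mathieu group on twenty two points is transitive on the other cosets of it.
-/

set_option autoImplicit false

namespace CfsgLib.Spor.HSRankThree

open Cfsg CfsgLib.Spor

theorem transitive_four {x y : ℕ → GolayPt} (hx : ∀ i < 4, ∀ j < 4, x i = x j → i = j)
    (hy : ∀ i < 4, ∀ j < 4, y i = y j → i = j) : ∃ g ∈ M24, ∀ i < 4, g (x i) = y i := by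
  obtain ⟨g, hg, hgx⟩ := exists_mem_M24_bpt 4 (by norm_num) x hx
  obtain ⟨h, hh, hhy⟩ := exists_mem_M24_bpt 4 (by norm_num) y hy
  exact ⟨h * g⁻¹, M24.mul_mem hh (M24.inv_mem hg), fun i hi => by
    rw [Equiv.Perm.mul_apply, show g⁻¹ (x i) = bpt i by rw [← hgx i hi]; simp, hhy i hi]⟩

/-- The stabiliser of one of 22 points is transitive on the other 21. -/
theorem two_transitive {X Ω : Type*} [Group X] [MulAction X Ω] (e : X ≃* Spor.M22) (b : Ω)
    (hb : (MulAction.orbit X b).ncard = 22) {p q : Ω} (hp : p ∈ MulAction.orbit X b) (hq : q ∈ MulAction.orbit X b)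
    (hpb : p ≠ b) (hqb : q ≠ b) : ∃ g : X, g • b = b ∧ g • p = q := by
  let K : Subgroup (Equiv.Perm GolayPt) :=
    ((MulAction.stabilizer X b).map e.toMonoidHom).map Spor.M22.subtype
  have hXcard : Nat.card X = 443520 := by rw [Nat.card_congr e.toEquiv, OuterAut.card_M22]
  have hKcard : Nat.card K = 20160 := by
    rw [Subgroup.card_map_of_injective Spor.M22.subtype_injective, Subgroup.card_map_of_injective (f := e.toMonoidHom)
      e.injective]
    have h := (MulAction.stabilizer X b).index_mul_card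
    rw [MulAction.index_stabilizer, hb, hXcard] at h
    omega
  have hK22 : K ≤ Spor.M22 := Subgroup.map_subtype_le _
  have hab : (none : GolayPt) ≠ some 0 := by simp
  have hna : ∀ g ∈ Spor.M22, g none = none := fun g hg => hg.1.2
  have hnb : ∀ g ∈ Spor.M22, g (some 0) = some 0 := fun g hg => hg.2
  have hK24 : K ≤ M24 := fun g hg => (hK22 hg).1.1
  obtain ⟨u, hua, hub, hu⟩ := PointSub.fixes_point_22 hK24 hab (fun g hg => hna g (hK22 hg))
    (fun g hg => hnb g (hK22 hg)) hKcard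
  have hmem : ∀ x : X, (e x : Equiv.Perm GolayPt) u = u ↔ x • b = b := by
    intro x
    let L : Subgroup (Equiv.Perm GolayPt) := Spor.M22 ⊓ MulAction.stabilizer (Equiv.Perm GolayPt) u
    have hKL : K ≤ L := fun g hg => ⟨hK22 hg, hu g hg⟩
    have hLdvd : Nat.card L ∣ 20160 := IndexSub.card_three_points hab hua.symm hub.symm
      (fun g hg => hg.1.1.1) (fun g hg => ⟨hna g hg.1, hnb g hg.1, hg.2⟩)
    have hKeq : K = L := Subgroup.eq_of_le_of_card_ge hKL
      (by rw [hKcard]; exact Nat.le_of_dvd (by norm_num) hLdvd)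
    constructor
    · intro h
      have hm : (e x : Equiv.Perm GolayPt) ∈ K := hKeq ▸ (show (e x : Equiv.Perm GolayPt) ∈ L from ⟨(e x).2, h⟩)
      obtain ⟨y, ⟨z, hz, hzy⟩, hy⟩ := hm
      have : z = x := e.injective (hzy.trans (Subtype.ext hy))
      exact this ▸ hz
    · exact fun h => hu _ ⟨e x, ⟨x, h, rfl⟩, rfl⟩
  obtain ⟨x, rfl⟩ := hp
  obtain ⟨y, rfl⟩ := hq
  set v := (e x : Equiv.Perm GolayPt) u with hv
  set w := (e y : Equiv.Perm GolayPt) u with hw
  have hvu : v ≠ u := fun h => hpb ((hmem x).1 h)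
  have hwu : w ≠ u := fun h => hqb ((hmem y).1 h)
  have hne : ∀ z : X, (e z : Equiv.Perm GolayPt) u ≠ none ∧ (e z : Equiv.Perm GolayPt) u ≠ some 0 := fun z =>
    ⟨fun h => hua ((e z : Equiv.Perm GolayPt).injective (h.trans (hna _ (e z).2).symm)),
      fun h => hub ((e z : Equiv.Perm GolayPt).injective (h.trans (hnb _ (e z).2).symm))⟩
  let pts : GolayPt → ℕ → GolayPt := fun t i => if i = 0 then none else if i = 1 then some 0 else if i = 2 then u else t
  have hpts : ∀ t, t ≠ none → t ≠ some 0 → t ≠ u → ∀ i < 4, ∀ j < 4, pts t i = pts t j → i = j := by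
    intro t h1 h2 h3 i hi j hj h
    interval_cases i <;> interval_cases j <;>
      simp [pts, hua, hub, hua.symm, hub.symm, h1, h2, h3, h1.symm, h2.symm, h3.symm] at h ⊢
  obtain ⟨k, hk, hkp⟩ := transitive_four (hpts v (hne x).1 (hne x).2 hvu) (hpts w (hne y).1 (hne y).2 hwu)
  have hk22 : k ∈ Spor.M22 := ⟨⟨hk, by simpa [pts] using hkp 0 (by norm_num)⟩, by simpa [pts] using hkp 1 (by norm_num)⟩
  have hex : ((e (e.symm ⟨k, hk22⟩) : Spor.M22) : Equiv.Perm GolayPt) = k := by rw [MulEquiv.apply_symm_apply]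
  refine ⟨e.symm ⟨k, hk22⟩, (hmem _).1 ?_, ?_⟩
  · rw [hex]; simpa [pts] using hkp 2 (by norm_num)
  · have h : (y⁻¹ * e.symm ⟨k, hk22⟩ * x) • b = b := by
      refine (hmem _).1 ?_
      simp only [map_mul, map_inv, Subgroup.coe_mul, Subgroup.coe_inv, Equiv.Perm.mul_apply, hex]
      rw [← hv, show k v = w by simpa [pts] using hkp 3 (by norm_num), hw]
      simp
    rw [mul_smul, mul_smul, inv_smul_eq_iff] at h
    exact h

end CfsgLib.Spor.HSRankThree
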