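import Cfsg.Agent.Lib.Spor.HSRankThree.Graph
import Cfsg.Agent.Lib.Spor.HSRankThree.Suborbit
import Cfsg.Agent.Lib.Spor.HSGraph.Aut

/-!
The recognition of the Higman-Sims group as a permutation group of rank three.
-/

set_option autoImplicit false

namespace CfsgLib.Spor.HSRankThree

open Cfsg MulAction

/-- Isomorphic graphs have isomorphic groups. -/
def autCongr {V W : Type*} {A : SimpleGraph V} {B : SimpleGraph W} (φ : A ≃g B) : (A ≃g A) ≃* (B ≃g B) where
  toFun ψ := (φ.symm.trans ψ).trans φ
  invFun ψ := (φ.trans ψ).trans φ.symm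
  left_inv ψ := RelIso.ext fun v => by simp
  right_inv ψ := RelIso.ext fun v => by simp
  map_mul' ψ χ := RelIso.ext fun v => by simp [RelIso.mul_def]

theorem card_aut_graph : Nat.card (graph ≃g graph) = 88704000 := by
  classical
  obtain ⟨φ, -⟩ := HSGraph.exists_iso_sys srg (0 : Fin 100)
  rw [← Nat.card_congr (autCongr φ).toEquiv,
    Nat.card_congr (MonoidHom.ofInjective HSGraph.autHom_injective).toEquiv]
  exact HSGraph.card_aut (HSGraph.card_near srg 0) (HSGraph.sys_steiner srg 0)

/-- The permutation group as graph automorphisms. -/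
noncomputable def toAut : ↥HSPerm.P →* (graph ≃g graph) where
  toFun g := ⟨g.1, fun {x y} => preserves g.2 x y⟩
  map_one' := RelIso.ext fun _ => rfl
  map_mul' _ _ := RelIso.ext fun _ => rfl

theorem eq_of_index_two {A : Type*} [Group A] [Finite A] {I J : Subgroup A} [IsSimpleGroup J]
    (hI : I.index = 2) (hc : Nat.card I = Nat.card J) (hJ : 2 < Nat.card J) : J = I := by
  haveI : I.Normal := Subgroup.normal_of_index_eq_two hI
  have hn : (I.subgroupOf J).Normal := inferInstance
  rcases hn.eq_bot_or_eq_top with h | h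
  · have h1 : (I.subgroupOf J).index ∣ 2 := by
      rw [← hI]
      exact Subgroup.relIndex_dvd_index_of_normal I J
    rw [h, Subgroup.index_bot] at h1
    exact absurd (Nat.le_of_dvd (by norm_num) h1) (by omega)
  · exact Subgroup.eq_of_le_of_card_ge (Subgroup.subgroupOf_eq_top.1 h) hc.le

variable {Ω : Type*} [Fintype Ω] [DecidableEq Ω]

theorem isoHS_of_srg (G : Subgroup (Equiv.Perm Ω)) (hcard : Nat.card G = 44352000) (Γ : SimpleGraph Ω)
    (hΓ : ∀ g ∈ G, ∀ x y, Γ.Adj (g x) (g y) ↔ Γ.Adj x y) [DecidableRel Γ.Adj] (hsrg : Γ.IsSRGWith 100 22 0 6) :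
    Spor.IsoHS G := by
  obtain ⟨φ⟩ := HSGraph.unique hsrg srg
  let f : ↥G →* (graph ≃g graph) := (autCongr φ).toMonoidHom.comp
    { toFun := fun g => (⟨g.1, fun {x y} => hΓ g.1 g.2 x y⟩ : Γ ≃g Γ)
      map_one' := RelIso.ext fun _ => rfl
      map_mul' := fun _ _ => RelIso.ext fun _ => rfl }
  have hf : Function.Injective f := fun g h e => by
    have := (autCongr φ).injective e
    exact Subtype.ext (Equiv.ext fun x => congrArg (fun ψ : Γ ≃g Γ => ψ x) this)
  have ht : Function.Injective toAut := fun g h e =>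
    Subtype.ext (Equiv.ext fun x => congrArg (fun ψ : graph ≃g graph => ψ x) e)
  haveI : Finite (graph ≃g graph) := Nat.finite_of_card_ne_zero (by rw [card_aut_graph]; norm_num)
  have cI : Nat.card f.range = 44352000 := by rw [← Nat.card_congr (MonoidHom.ofInjective hf).toEquiv, hcard]
  have cJ : Nat.card toAut.range = 44352000 := by
    rw [← Nat.card_congr (MonoidHom.ofInjective ht).toEquiv, HSPerm.card_P]
  haveI := Leech.Census32.simple_hs_base
  haveI : IsSimpleGroup toAut.range :=
    (HSPerm.equivP.trans (MonoidHom.ofInjective ht)).symm.isSimpleGroup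
  have hI : f.range.index = 2 := by
    have := f.range.index_mul_card
    rw [cI, card_aut_graph] at this
    omega
  have hJI := eq_of_index_two (J := toAut.range) hI (by rw [cI, cJ]) (by rw [cJ]; norm_num)
  obtain ⟨e⟩ := HSPerm.nonempty_equiv_HS
  exact ⟨(((MonoidHom.ofInjective hf).trans (MulEquiv.subgroupCongr hJI.symm)).trans
    (MonoidHom.ofInjective ht).symm).trans e.symm⟩

theorem recognition (hΩ : Fintype.card Ω = 100) (G : Subgroup (Equiv.Perm Ω)) [IsPretransitive G Ω] (a : Ω)
    (e : stabilizer G a ≃* Cfsg.Spor.M22) (b c : Ω) (hb : (orbit (stabilizer G a) b).ncard = 22)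
    (hc : (orbit (stabilizer G a) c).ncard = 77) : Cfsg.Spor.IsoHS G := by
  classical
  have hcard : Nat.card G = 44352000 := by
    have h := (stabilizer G a).index_mul_card
    rw [MulAction.index_stabilizer_of_transitive, Nat.card_eq_fintype_card (α := Ω), hΩ, Nat.card_congr e.toEquiv,
      OuterAut.card_M22] at h
    exact h.symm
  set B : Set Ω := orbit (stabilizer G a) b with hB
  set C : Set Ω := orbit (stabilizer G a) c with hC
  have haB : a ∉ B := by
    rintro ⟨g, hg⟩
    have hfix : (g : G) • a = a := g.2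
    have hba : b = a := MulAction.injective (g : G) ((show (g : G) • b = a from hg).trans hfix.symm)
    have : B ⊆ {a} := fun q ⟨h, hh⟩ => by
      rw [← hh]; show (h : G) • b = a; rw [hba]; exact h.2
    have := Set.ncard_le_ncard this
    rw [hb, Set.ncard_singleton] at this
    omega
  have haC : a ∉ C := by
    rintro ⟨g, hg⟩
    have hfix : (g : G) • a = a := g.2
    have hba : c = a := MulAction.injective (g : G) ((show (g : G) • c = a from hg).trans hfix.symm)
    have : C ⊆ {a} := fun q ⟨h, hh⟩ => by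
      rw [← hh]; show (h : G) • c = a; rw [hba]; exact h.2
    have := Set.ncard_le_ncard this
    rw [hc, Set.ncard_singleton] at this
    omega
  have hBC : Disjoint B C := Set.disjoint_left.2 fun q h1 h2 => by
    have e1 := orbit_eq_iff.2 h1
    have e2 := orbit_eq_iff.2 h2
    have := congrArg Set.ncard (e1.symm.trans e2)
    change B.ncard = C.ncard at this
    omega
  have hcover : ∀ q, q = a ∨ q ∈ B ∨ q ∈ C := by
    have h : ({a} : Set Ω) ∪ (B ∪ C) = Set.univ := by
      refine Set.eq_of_subset_of_ncard_le (Set.subset_univ _) ?_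
      rw [Set.ncard_union_eq (Set.disjoint_singleton_left.2 fun h => h.elim haB haC), Set.ncard_union_eq hBC, hb, hc,
        Set.ncard_singleton, Set.ncard_univ, Nat.card_eq_fintype_card, hΩ]
    intro q
    have := h.symm ▸ Set.mem_univ q
    simpa using this
  -- the relation
  let R : Ω → Ω → Prop := fun x y => ∃ g : G, g • a = x ∧ g • b = y
  have hRG : ∀ (g : G) x y, R x y → R (g • x) (g • y) := fun g x y ⟨h, h1, h2⟩ =>
    ⟨g * h, by rw [mul_smul, h1], by rw [mul_smul, h2]⟩
  have hRa : ∀ q, R a q ↔ q ∈ B := fun q => ⟨fun ⟨g, h1, h2⟩ => ⟨⟨g, h1⟩, h2⟩, fun ⟨g, hg⟩ => ⟨g, g.2, hg⟩⟩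
  have hirr : ∀ x, ¬ R x x := fun x ⟨g, h1, h2⟩ =>
    haB ((hRa a).1 ⟨1, one_smul _ _, by rw [one_smul]; exact MulAction.injective g (h2.trans h1.symm)⟩)
  -- the suborbit is paired with itself
  have hsym : ∀ x y, R x y → R y x := by
    obtain ⟨g0, hg0⟩ := MulAction.exists_smul_eq G b a
    set q0 := g0 • a with hq0
    have hq0R : R q0 a := ⟨g0, rfl, hg0⟩
    have hsz : (orbit (stabilizer G a) q0).ncard = 22 := by
      have key : ∀ x y : Ω, ((stabilizer G x) ⊓ stabilizer G y).index = 100 * (orbit (stabilizer G x) y).ncard := by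
        intro x y
        rw [← Subgroup.relIndex_mul_index (inf_le_left : stabilizer G x ⊓ stabilizer G y ≤ stabilizer G x),
          MulAction.index_stabilizer_of_transitive, Nat.card_eq_fintype_card (α := Ω), hΩ, mul_comm]
        congr 1
        rw [← MulAction.index_stabilizer, Subgroup.inf_relIndex_left, Subgroup.relIndex]
        refine congrArg Subgroup.index (Subgroup.ext fun h => ?_)
        rfl
      have e1 : ((stabilizer G a) ⊓ stabilizer G b).map (MulAut.conj g0).toMonoidHom =
          stabilizer G q0 ⊓ stabilizer G a := by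
        rw [Subgroup.map_inf _ _ _ (MulAut.conj g0).injective, ← stabilizer_smul_eq_stabilizer_map_conj g0 a,
          ← stabilizer_smul_eq_stabilizer_map_conj g0 b, hg0]
      have e2 := key a q0
      rw [inf_comm, ← e1] at e2
      rw [MulEquiv.toMonoidHom_eq_coe, Subgroup.index_map_equiv, key a b] at e2
      change 100 * B.ncard = _ at e2
      rw [hb] at e2
      omega
    have hq0B : q0 ∈ B := by
      rcases hcover q0 with h | h | h
      · rw [h] at hq0R; exact absurd hq0R (hirr a)
      · exact h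
      · have := congrArg Set.ncard (orbit_eq_iff.2 h)
        change _ = C.ncard at this
        omega
    intro x y ⟨g, h1, h2⟩
    obtain ⟨k, hk1, hk2⟩ := (hRa q0).2 hq0B
    -- the pair (a, b) is reversed
    have hrev : R b a := by
      have h3 := hRG k⁻¹ _ _ hq0R
      rw [show k⁻¹ • q0 = b by rw [← hk2, inv_smul_smul], show k⁻¹ • a = a by rw [inv_smul_eq_iff, hk1]] at h3
      exact h3
    rw [← h1, ← h2]
    exact hRG g _ _ hrev
  let Γ : SimpleGraph Ω := { Adj := R, symm := ⟨fun x y => hsym x y⟩, loopless := ⟨hirr⟩ }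
  have hinv : ∀ (g : G) x y, Γ.Adj (g • x) (g • y) ↔ Γ.Adj x y := fun g x y =>
    ⟨fun h => by have := hRG g⁻¹ _ _ h; rwa [inv_smul_smul, inv_smul_smul] at this, hRG g x y⟩
  -- neighbourhoods
  let N : Ω → Finset Ω := fun x => Finset.univ.filter fun y => Γ.Adj x y
  have hmemN : ∀ {x y}, y ∈ N x ↔ Γ.Adj x y := fun {x y} => by simp [N]
  have hNimg : ∀ (g : G) x, N (g • x) = (N x).image (g • ·) := fun g x => by
    ext y
    rw [hmemN, Finset.mem_image]
    exact ⟨fun h => ⟨g⁻¹ • y, hmemN.2 ((hinv g _ _).1 (by rwa [smul_inv_smul])), smul_inv_smul g y⟩,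
      fun ⟨z, hz, hzy⟩ => hzy ▸ (hinv g _ _).2 (hmemN.1 hz)⟩
  have hNcard : ∀ x, (N x).card = 22 := fun x => by
    obtain ⟨g, rfl⟩ := MulAction.exists_smul_eq G a x
    rw [hNimg, Finset.card_image_of_injective _ (MulAction.injective g), ← hb, ← Set.ncard_coe_finset]
    congr 1
    ext q
    simp [N, hRa, Γ, hB]
  have hcommon : ∀ (g : G) x y, (N (g • x) ∩ N (g • y)).card = (N x ∩ N y).card := fun g x y => by
    rw [hNimg, hNimg, ← Finset.image_inter _ _ (MulAction.injective g),
      Finset.card_image_of_injective _ (MulAction.injective g)]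
  have hab : Γ.Adj a b := (hRa b).2 (mem_orbit_self b)
  -- two neighbours are never adjacent
  have hfree : ∀ q, Γ.Adj a q → ¬ Γ.Adj b q := by
    intro q hq hbq
    have hqb : q ≠ b := fun h => hirr b (h ▸ hbq)
    have hclique : ∀ r, Γ.Adj a r → r ≠ b → Γ.Adj b r := by
      intro r hr hrb
      obtain ⟨g, hg1, hg2⟩ := two_transitive e b hb ((hRa q).1 hq) ((hRa r).1 hr) hqb hrb
      have := (hinv (g : G) b q).2 hbq
      rwa [show (g : G) • b = b from hg1, show (g : G) • q = r from hg2] at this
    have hclosed : insert b (N b) = insert a (N a) := by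
      symm
      refine Finset.eq_of_subset_of_card_le (fun r hr => ?_) (le_of_eq ?_)
      · rcases Finset.mem_insert.1 hr with rfl | hr
        · exact Finset.mem_insert_of_mem (hmemN.2 (hsym _ _ hab))
        · by_cases hrb : r = b
          · exact hrb ▸ Finset.mem_insert_self _ _
          · exact Finset.mem_insert_of_mem (hmemN.2 (hclique r (hmemN.1 hr) hrb))
      · rw [Finset.card_insert_of_notMem fun h => hirr b (hmemN.1 h),
          Finset.card_insert_of_notMem fun h => hirr a (hmemN.1 h), hNcard, hNcard]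
    let S : Ω → Finset Ω := fun x => insert x (N x)
    have hS : ∀ x y, y ∈ S x → S y = S x := by
      intro x y hy
      rcases Finset.mem_insert.1 hy with rfl | hy
      · rfl
      · obtain ⟨g, rfl, rfl⟩ := hmemN.1 hy
        show insert (g • b) (N (g • b)) = insert (g • a) (N (g • a))
        rw [hNimg, hNimg, ← Finset.image_insert, ← Finset.image_insert, hclosed]
    have hcnt := Finset.card_eq_sum_card_image S (Finset.univ : Finset Ω)
    rw [Finset.sum_congr rfl (g := fun _ => 23) fun T hT => ?_, Finset.sum_const, smul_eq_mul, Finset.card_univ, hΩ]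
      at hcnt
    · omega
    · obtain ⟨x, -, rfl⟩ := Finset.mem_image.1 hT
      rw [show (Finset.univ.filter fun y => S y = S x) = S x from ?_,
        Finset.card_insert_of_notMem fun h => hirr x (hmemN.1 h), hNcard]
      ext y
      simp only [Finset.mem_filter, Finset.mem_univ, true_and]
      exact ⟨fun h => h ▸ Finset.mem_insert_self y _, hS x y⟩
  have hlam : ∀ x y, Γ.Adj x y → (N x ∩ N y).card = 0 := fun x y ⟨g, h1, h2⟩ => by
    rw [← h1, ← h2, hcommon, Finset.card_eq_zero, Finset.eq_empty_iff_forall_notMem]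
    exact fun q hq => hfree q (hmemN.1 (Finset.mem_inter.1 hq).1) (hmemN.1 (Finset.mem_inter.1 hq).2)
  have hfarC : ∀ q, q ≠ a → ¬ Γ.Adj a q → q ∈ C := fun q h1 h2 => by
    rcases hcover q with h | h | h
    · exact absurd h h1
    · exact absurd ((hRa q).2 h) h2
    · exact h
  have hmuC : ∀ q ∈ C, (N a ∩ N q).card = (N a ∩ N c).card := fun q ⟨g, hg⟩ => by
    have := hcommon (g : G) a c
    rwa [show (g : G) • a = a from g.2, show (g : G) • c = q from hg] at this
  have hmu : (N a ∩ N c).card = 6 := by
    let far : Finset Ω := Finset.univ.filter fun q => q ∈ C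
    have hfar : far.card = 77 := by
      rw [← hc, ← Set.ncard_coe_finset]
      congr 1
      ext q; simp [far, hC]
    have h := Finset.sum_card_bipartiteAbove_eq_sum_card_bipartiteBelow (s := N a) (t := far) (r := fun x y => Γ.Adj x y)
    have h1 : ∀ q ∈ N a, (far.bipartiteAbove (fun x y => Γ.Adj x y) q).card = 21 := fun q hq => by
      have e1 : far.bipartiteAbove (fun x y => Γ.Adj x y) q = (N q).erase a := by
        ext r
        simp only [Finset.mem_bipartiteAbove, Finset.mem_erase, far, Finset.mem_filter, Finset.mem_univ, true_and,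
          hmemN]
        refine Iff.intro ?_ ?_
        · rintro ⟨u, v⟩
          exact ⟨fun h => haC (h ▸ u), v⟩
        · rintro ⟨u, v⟩
          refine ⟨hfarC r u fun h3 => ?_, v⟩
          exact Finset.eq_empty_iff_forall_notMem.1 (Finset.card_eq_zero.1 (hlam a q (hmemN.1 hq))) r
            (Finset.mem_inter.2 ⟨hmemN.2 h3, hmemN.2 v⟩)
      rw [e1, Finset.card_erase_of_mem (hmemN.2 (hsym _ _ (hmemN.1 hq))), hNcard]
    have h2 : ∀ r ∈ far, ((N a).bipartiteBelow (fun x y => Γ.Adj x y) r).card = (N a ∩ N c).card := fun r hr => by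
      rw [← hmuC r (Finset.mem_filter.1 hr).2]
      refine congrArg Finset.card (Finset.ext fun q => ?_)
      simp only [Finset.mem_bipartiteBelow, Finset.mem_inter, hmemN]
      refine Iff.intro ?_ ?_
      · rintro ⟨u, v⟩
        exact ⟨u, hsym _ _ v⟩
      · rintro ⟨u, v⟩
        exact ⟨u, hsym _ _ v⟩
    rw [Finset.sum_congr rfl h1, Finset.sum_congr rfl h2, Finset.sum_const, Finset.sum_const, hNcard, hfar,
      smul_eq_mul, smul_eq_mul] at h
    omega
  have hcn : ∀ x y, Fintype.card (Γ.commonNeighbors x y) = (N x ∩ N y).card := fun x y => by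
    rw [← Set.toFinset_card]
    refine congrArg Finset.card (Finset.ext fun z => ?_)
    simp [SimpleGraph.mem_commonNeighbors, hmemN]
  refine isoHS_of_srg G hcard Γ (fun g hg => hinv ⟨g, hg⟩) ⟨hΩ, fun x => ?_, fun x y h => ?_, fun x y hne h => ?_⟩
  · rw [← hNcard x, ← SimpleGraph.card_neighborFinset_eq_degree]
    refine congrArg Finset.card (Finset.ext fun z => ?_)
    simp [hmemN]
  · rw [hcn, hlam x y h]
  · obtain ⟨g, rfl⟩ := MulAction.exists_smul_eq G a x
    obtain ⟨q, rfl⟩ : ∃ q, g • q = y := ⟨g⁻¹ • y, smul_inv_smul g y⟩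
    rw [hcn, hcommon, hmuC q (hfarC q (fun h' => hne (by rw [h'])) fun h' => h ((hinv g a q).2 h')), hmu]

end CfsgLib.Spor.HSRankThree
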